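/- The Sylow 2-subgroup of the Lyons group: facts on the model. -/
import Cfsg.Agent.SYL.L8Mod
import Cfsg.Agent.REC.S64.Sy

set_option autoImplicit false

namespace CL.LyS

open Subgroup CL.Syl CL.Syl.L8 CL.E32

/-- an element of the model -/
abbrev mk (a b c : Syl.F4) (s t : Bool) : M8 := ⟨⟨a, b, c, s⟩, t⟩

/-- `ω` and `ω²` -/
abbrev w1 : Syl.F4 := ⟨false, true⟩
abbrev w2 : Syl.F4 := ⟨true, true⟩

/-- representatives of the classes of involutions -/
def z : M8 := mk 0 0 1 false false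
def u : M8 := mk 0 0 w1 false false
def a1 : M8 := mk 1 0 0 false false
def a2 : M8 := mk w1 0 0 false false
def s : M8 := mk 0 0 0 true false
def t : M8 := mk 0 0 0 false true
def c : M8 := mk 0 0 0 true true

instance decEx (P : M8 → Prop) [DecidablePred P] : Decidable (∃ x, P x) :=
  decidable_of_iff (∃ x t, P ⟨x, t⟩) ⟨fun ⟨_, _, h⟩ => ⟨_, h⟩, fun ⟨x, h⟩ => ⟨x.x, x.t, h⟩⟩

instance : Fintype M8 := Fintype.ofEquiv _ M8.equiv.symm

/-- the representative of the class of an involution -/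
def rep (w : M8) : M8 :=
  cond w.t (cond w.x.s c t) (cond w.x.s s (if w.x.a + w.x.b = 0 then u else if w.x.a + w.x.b = 1 then a1 else a2))

/-- `UT₃(4)` extended by the unitary, resp. the field automorphism -/
def Ws : Subgroup M8 where
  carrier := {w | w.t = false}
  one_mem' := rfl
  mul_mem' := fun {a b} ha hb => show (a.t ^^ b.t) = false by rw [show a.t = false from ha, show b.t = false from hb]; rfl
  inv_mem' := fun ha => ha

def Wt : Subgroup M8 where
  carrier := {w | w.x.s = false}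
  one_mem' := rfl
  mul_mem' := fun {a b} => by
    obtain ⟨⟨_, _, _, _ | _⟩, _ | _⟩ := a <;> obtain ⟨⟨_, _, _, _ | _⟩, _ | _⟩ := b <;> intro h h' <;>
      first | rfl | exact h | exact h'
  inv_mem' := fun {a} => by obtain ⟨⟨_, _, _, _ | _⟩, _ | _⟩ := a <;> intro h <;> first | rfl | exact h

instance : DecidablePred (· ∈ Ws) := fun _ => instDecidableEqBool _ _
instance : DecidablePred (· ∈ Wt) := fun _ => instDecidableEqBool _ _

theorem idx_Ws : Ws.index = 2 := index_eq_two_iff.2 ⟨t, by decide +kernel⟩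
theorem idx_Wt : Wt.index = 2 := index_eq_two_iff.2 ⟨s, by decide +kernel⟩

theorem zc : ∀ v, v * z = z * v := by decide +kernel

theorem cj_z : ∀ y, y * y = 1 → y ≠ 1 → y ≠ z → ∃ k, k * y * k⁻¹ = y * z := by decide +kernel

theorem cj_rep : ∀ w, w * w = 1 → w ≠ 1 → w ≠ z → ∃ k, k * w * k⁻¹ = rep w := by decide +kernel

theorem rep_eq : ∀ w, rep w = u ∨ rep w = a1 ∨ rep w = a2 ∨ (rep w = t ∧ w ∉ Ws) ∨ (rep w = s ∧ w ∉ Wt) ∨
    (rep w = c ∧ w ∉ Ws ∧ w ∉ Wt) := by decide +kernel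

theorem pow4 : ∀ p : M8, p * p * (p * p) = 1 ∨ p * p * (p * p) = z ∨ p * p * (p * p) = u ∨
    p * p * (p * p) = u * z := by decide +kernel

theorem pair : ∀ y, y * y = 1 → ∀ d, d * d = 1 → y * d * (y * d) * (y * d * (y * d)) = u * z →
    y ≠ 1 ∧ y ≠ z ∧ d ≠ 1 ∧ d ≠ z ∧ (rep y = a2 ∨ rep y = c ∧ rep d = a2) := by decide +kernel

theorem t_ne_sq : ∀ p, p * p ≠ t := by decide +kernel

theorem no_q8 : ∀ i, i * t = t * i → i * i ≠ 1 → ∀ j, j * j = i * i → j * t = t * j →
    i * j * (i * j) ≠ i * i := by decide +kernel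

theorem card_le : ∀ w, w * w = 1 → w ≠ 1 → w ≠ z → rep w ≠ u →
    (Finset.univ.filter fun v => v * w = w * v).card ≤ 32 := by decide +kernel

theorem card_t : (Finset.univ.filter fun v => v * t = t * v).card = 32 := by decide +kernel

/-- the five singular points of the extraspecial subgroup -/
def q : Fin 5 → M8 := ![u, s, mk 1 1 0 true false, mk w1 w2 0 true false, mk w2 w1 0 true false]

theorem q_sq : ∀ i, q i * q i = 1 := by decide +kernel

theorem q_an : ∀ i j, i ≠ j → q i * q j = q j * q i * z := by decide +kernel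

theorem q_inj : ∀ i j, q i = q j ∨ q i = q j * z → i = j := by decide +kernel

theorem q_mv : ∀ j i, j ≠ 0 → i ≠ 0 → ∃ w, w * q j * w⁻¹ = q i := by decide +kernel

theorem q_of : ∀ x, x * x = 1 → x ≠ 1 → x ≠ z → rep x = u ∨ rep x = s → ∃ j, x = q j ∨ x = q j * z := by
  decide +kernel

theorem q_fix : ∀ w, (∀ i, w * q i * w⁻¹ = q i ∨ w * q i * w⁻¹ = q i * z) →
    ∃ i j, w = q i ∨ w = q i * z ∨ w = q i * q j ∨ w = q i * q j * z := by decide +kernel

theorem weak0 : ∀ x ∈ [a1, a2, t, c], ∀ y, y * y = 1 → x * y = y * x * z → ∀ w, w * w = 1 → x * w = w * x * z →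
    y * w = w * y * z → ∀ v, v * v = 1 → x * v = v * x * z → y * v = v * y * z → w * v ≠ v * w * z := by
  decide +kernel

theorem an_cj {K : Type*} [Group K] {ζ g a b : K} (h : g * ζ = ζ * g) (e : a * b = b * a * ζ) :
    g * a * g⁻¹ * (g * b * g⁻¹) = g * b * g⁻¹ * (g * a * g⁻¹) * ζ := by
  calc _ = g * (a * b) * g⁻¹ := by group
    _ = g * b * a * g⁻¹ * (g * ζ) * g⁻¹ := by rw [e]; group
    _ = _ := by rw [h]; group

theorem weak {x y w v : M8} (hx : x * x = 1) (hy : y * y = 1) (hw : w * w = 1) (hv : v * v = 1)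
    (xy : x * y = y * x * z) (xw : x * w = w * x * z) (yw : y * w = w * y * z) (xv : x * v = v * x * z)
    (yv : y * v = v * y * z) (wv : w * v = v * w * z) : ∃ j, x = q j ∨ x = q j * z := by
  have z1 : ∀ {a : M8}, a ≠ a * z := fun e => absurd (left_eq_mul.1 e) (by decide)
  have h1 : x ≠ 1 := fun e => z1 (a := y) (by rwa [e, one_mul, mul_one] at xy)
  have h2 : x ≠ z := fun e => z1 (by rwa [e, ← zc] at xy)
  refine q_of x hx h1 h2 (by_contra fun hn => ?_)
  obtain ⟨k, hk⟩ := cj_rep x hx h1 h2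
  have sq : ∀ {a : M8}, a * a = 1 → k * a * k⁻¹ * (k * a * k⁻¹) = 1 := fun e => by rw [conj_mul, e]; simp
  refine weak0 _ ?_ _ (sq hy) (an_cj (zc k) xy) _ (sq hw) (an_cj (zc k) xw) (an_cj (zc k) yw) _ (sq hv)
    (an_cj (zc k) xv) (an_cj (zc k) yv) (an_cj (zc k) wv)
  rw [hk]
  rcases rep_eq x with e | e | e | e | e | e
  exacts [(hn (.inl e)).elim, by simp [e], by simp [e], by simp [e.1], (hn (.inr e.1)).elim, by simp [e.1]]

theorem gen {V : Subgroup M8} (h2 : a2 ∈ V) (hs : s ∈ V) (ht : t ∈ V) (w : M8) : w ∈ V := by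
  have ha : ∀ a, mk a 0 0 false false ∈ V := fun a => by
    have : ∀ a, mk a 0 0 false false = 1 ∨ mk a 0 0 false false = a2 ∨ mk a 0 0 false false = t * a2 * t ∨
      mk a 0 0 false false = a2 * (t * a2 * t) := by decide +kernel
    have h3 := mul_mem (mul_mem ht h2) ht
    rcases this a with e | e | e | e <;> rw [e]
    exacts [one_mem _, h2, h3, mul_mem h2 h3]
  have hb : ∀ b, mk 0 b 0 false false ∈ V := fun b => by
    rw [show ∀ b, mk 0 b 0 false false = s * mk b.bar 0 0 false false * s by decide +kernel]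
    exact mul_mem (mul_mem hs (ha _)) hs
  have hc : ∀ c, mk 0 0 c false false ∈ V := fun c => by
    rw [show ∀ c, mk 0 0 c false false = (mk 1 0 0 false false * mk 0 c 0 false false) ^ 2 by decide +kernel]
    exact pow_mem (mul_mem (ha _) (hb _)) _
  have e : ∀ w : M8, w = mk 0 w.x.b 0 false false * mk w.x.a 0 0 false false * mk 0 0 w.x.c false false *
    cond w.x.s s 1 * cond w.t t 1 := by decide +kernel
  rw [e w]
  refine mul_mem (mul_mem (mul_mem (mul_mem (hb _) (ha _)) (hc _)) ?_) ?_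
  · cases w.x.s; exacts [one_mem _, hs]
  · cases w.t; exacts [one_mem _, ht]

end CL.LyS
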